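import Groth.Agent.FMKLib.ConvBC
import Groth.Agent.DCohMore.ProjQC
import Groth.Agent.DCohLib.TensorComp
import Groth.Agent.DCohLib.TensorLinv
import Groth.Agent.DCohLib.SymNat
import Groth.Agent.KInj.Functorial

/-!
# Natural projection formulas
-/

set_option autoImplicit false
set_option linter.style.haveILetI false
set_option backward.isDefEq.respectTransparency false
set_option maxHeartbeats 1000000

universe u

open CategoryTheory CategoryTheory.Limits AlgebraicGeometry HomologicalComplex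

attribute [local instance] HasDerivedCategory.standard

noncomputable section

namespace Groth.Agent.FMKLib

open Groth.Agent.DCohLib Groth.Agent.DCohMore Groth.Agent.KFlat

variable {X Y : Scheme.{u}}

/-- Functors on the derived category agreeing on K-flat resolutions agree. -/
theorem nonempty_iso_of_resX {H : Type*} [Category H] {F G : DCoh.D X ⥤ H}
    (η : (resX X ⋙ DerivedCategory.Q) ⋙ F ≅ (resX X ⋙ DerivedCategory.Q) ⋙ G) : Nonempty (F ≅ G) := by
  haveI : ∀ K, IsIso ((Functor.whiskerRight (resXπ X) DerivedCategory.Q).app K) := fun K => isIso_Q_resXπ K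
  haveI := NatIso.isIso_of_isIso_app (Functor.whiskerRight (resXπ X) DerivedCategory.Q)
  let ε : resX X ⋙ DerivedCategory.Q ≅ DerivedCategory.Q :=
    asIso (Functor.whiskerRight (resXπ X) DerivedCategory.Q) ≪≫ DerivedCategory.Q.leftUnitor
  let θ : DerivedCategory.Q ⋙ F ≅ DerivedCategory.Q ⋙ G :=
    Functor.isoWhiskerRight ε.symm F ≪≫ η ≪≫ Functor.isoWhiskerRight ε G
  letI : Localization.Lifting DerivedCategory.Q (HomologicalComplex.quasiIso X.Modules (ComplexShape.up ℤ))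
      (DerivedCategory.Q ⋙ F) F := ⟨Iso.refl _⟩
  letI : Localization.Lifting DerivedCategory.Q (HomologicalComplex.quasiIso X.Modules (ComplexShape.up ℤ))
      (DerivedCategory.Q ⋙ G) G := ⟨Iso.refl _⟩
  exact ⟨Localization.liftNatIso DerivedCategory.Q (HomologicalComplex.quasiIso X.Modules (ComplexShape.up ℤ))
    (DerivedCategory.Q ⋙ F) (DerivedCategory.Q ⋙ G) F G θ⟩

section Lpull

variable (f : X ⟶ Y) [DCoh.HasLpull f]

/-- The natural comparison of the derived and termwise inverse images. -/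
def lpullNat : DerivedCategory.Q ⋙ DCoh.Lpull f ⟶ pullCx f ⋙ DerivedCategory.Q :=
  Functor.whiskerRight (DerivedCategory.quotientCompQhIso Y.Modules).inv (DCoh.Lpull f) ≫
    (Functor.associator _ _ _).hom ≫
    Functor.whiskerLeft (HomotopyCategory.quotient Y.Modules (ComplexShape.up ℤ)) (lpullCounit f) ≫
    (Functor.associator _ _ _).inv ≫
    Functor.whiskerRight ((Scheme.Modules.pullback f).mapHomotopyCategoryFactors (ComplexShape.up ℤ)).hom
      DerivedCategory.Qh ≫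
    (Functor.associator _ _ _).hom ≫
    Functor.whiskerLeft (pullCx f) (DerivedCategory.quotientCompQhIso X.Modules).hom

theorem lpullNat_app_eq (K : CochainComplex Y.Modules ℤ) (hK : DCoh.IsKFlat K) :
    (lpullNat f).app K = (lpullIsoK f K hK).hom := by
  simp [lpullNat, lpullIsoK]

theorem isIso_lpullNat_app (K : CochainComplex Y.Modules ℤ) (hK : DCoh.IsKFlat K) :
    IsIso ((lpullNat f).app K) := by
  rw [lpullNat_app_eq f K hK]
  infer_instance

end Lpull

/-- The derived inverse image on K-flat resolutions, naturally. -/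
def lpullResIso (f : X ⟶ Y) [DCoh.HasLpull f] :
    (resX Y ⋙ DerivedCategory.Q) ⋙ DCoh.Lpull f ≅ resX Y ⋙ pullCx f ⋙ DerivedCategory.Q :=
  haveI : ∀ K, IsIso ((Functor.whiskerLeft (resX Y) (lpullNat f)).app K) := fun K =>
    isIso_lpullNat_app f _ (isKFlat_resX K)
  haveI := NatIso.isIso_of_isIso_app (Functor.whiskerLeft (resX Y) (lpullNat f))
  Functor.associator _ _ _ ≪≫ asIso (Functor.whiskerLeft (resX Y) (lpullNat f))

/-- The derived tensor product on K-flat complexes, naturally. -/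
def lTensorFlatIso (E : CochainComplex X.Modules ℤ) [DCoh.HasLTensorCx E] {C : Type*} [Category C]
    (P : C ⥤ CochainComplex X.Modules ℤ) (hP : ∀ A, DCoh.IsKFlat (P.obj A)) :
    (P ⋙ DerivedCategory.Q) ⋙ DCoh.LTensorCx E ≅ P ⋙ DCoh.tensorCxQ E :=
  haveI : ∀ A, IsIso ((Functor.whiskerLeft P (lTensorCounit E)).app A) := fun A =>
    isIso_lTensorCounit_app E _ (hP A)
  haveI := NatIso.isIso_of_isIso_app (Functor.whiskerLeft P (lTensorCounit E))
  Functor.associator _ _ _ ≪≫ asIso (Functor.whiskerLeft P (lTensorCounit E))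

/-- Inverse images commute with tensor products, naturally in the first complex. -/
def pullTensorNat (g : X ⟶ Y) (N : CochainComplex Y.Modules ℤ) :
    DCoh.tensorCx.flip.obj N ⋙ pullCx g ≅ pullCx g ⋙ DCoh.tensorCx.flip.obj ((pullCx g).obj N) :=
  NatIso.ofComponents (G := pullCx g ⋙ (DCoh.tensorCx (X := X)).flip.obj ((pullCx g).obj N))
    (fun A => pullTensorCxIso g A N) fun {A A'} φ => pullTensorCxIso_hom_natural_left g N φ

/-- Derived inverse images commute with derived tensor products, naturally. -/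
theorem nonempty_lpull_lTensor_natIso (h : X ⟶ Y) [DCoh.HasLpull h] (L : CochainComplex Y.Modules ℤ)
    [DCoh.HasLTensorCx L] (L' : CochainComplex X.Modules ℤ) [DCoh.HasLTensorCx L']
    (e : DerivedCategory.Q.obj L' ≅ (DCoh.Lpull h).obj (DerivedCategory.Q.obj L)) :
    Nonempty (DCoh.LTensorCx L ⋙ DCoh.Lpull h ≅ DCoh.Lpull h ⋙ DCoh.LTensorCx L') := by
  let M := (resX Y).obj L
  haveI := quasiIso_resXπ L
  haveI : IsIso (DerivedCategory.Q.map ((resXπ Y).app L)) := inferInstance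
  let eM : DerivedCategory.Q.obj M ≅ DerivedCategory.Q.obj L := asIso (DerivedCategory.Q.map ((resXπ Y).app L))
  have hM : DCoh.IsKFlat M := isKFlat_resX L
  let M' := (pullCx h).obj M
  obtain ⟨a⟩ := nonempty_lTensor_of_iso (E := L) (E' := M) eM
  obtain ⟨c⟩ := nonempty_lTensor_of_iso (E := L') (E' := M')
    ((lpullIsoK h M hM).symm ≪≫ (DCoh.Lpull h).mapIso eM ≪≫ e.symm)
  obtain ⟨b⟩ : Nonempty (DCoh.LTensorCx M ⋙ DCoh.Lpull h ≅ DCoh.Lpull h ⋙ DCoh.LTensorCx M') := by
    refine nonempty_iso_of_resX ?_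
    let T := DCoh.tensorCx.flip.obj M
    have hT : ∀ A, DCoh.IsKFlat ((resX Y ⋙ T).obj A) := fun A =>
      isKFlat_tensorCx (K := (resX Y).obj A) (L := M) (isKFlat_resX A) hM
    haveI : ∀ A, IsIso ((Functor.whiskerLeft (resX Y ⋙ T) (lpullNat h)).app A) := fun A =>
      isIso_lpullNat_app h _ (hT A)
    haveI := NatIso.isIso_of_isIso_app (Functor.whiskerLeft (resX Y ⋙ T) (lpullNat h))
    let T' := DCoh.tensorCx.flip.obj M'
    let e1 : (resX Y ⋙ DerivedCategory.Q) ⋙ DCoh.LTensorCx M ≅ (resX Y ⋙ T) ⋙ DerivedCategory.Q :=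
      lTensorFlatIso M (resX Y) (fun A => isKFlat_resX A) ≪≫
        (Functor.associator (resX Y) T DerivedCategory.Q).symm
    let e2 : (resX Y ⋙ T) ⋙ DerivedCategory.Q ⋙ DCoh.Lpull h ≅ (resX Y ⋙ T) ⋙ pullCx h ⋙ DerivedCategory.Q :=
      asIso (Functor.whiskerLeft (resX Y ⋙ T) (lpullNat h))
    let e3 : T ⋙ pullCx h ≅ pullCx h ⋙ T' := pullTensorNat h M
    let e4 : ((resX Y ⋙ pullCx h) ⋙ DerivedCategory.Q) ⋙ DCoh.LTensorCx M' ≅
        (resX Y ⋙ pullCx h) ⋙ T' ⋙ DerivedCategory.Q :=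
      lTensorFlatIso M' (resX Y ⋙ pullCx h) fun A => isKFlat_pullback h (isKFlat_resX A)
    exact (Functor.associator (resX Y ⋙ DerivedCategory.Q) (DCoh.LTensorCx M) (DCoh.Lpull h)).symm ≪≫
      Functor.isoWhiskerRight e1 (DCoh.Lpull h) ≪≫
      Functor.associator (resX Y ⋙ T) DerivedCategory.Q (DCoh.Lpull h) ≪≫
      e2 ≪≫
      Functor.associator (resX Y) T (pullCx h ⋙ DerivedCategory.Q) ≪≫
      Functor.isoWhiskerLeft (resX Y) ((Functor.associator T (pullCx h) DerivedCategory.Q).symm ≪≫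
        Functor.isoWhiskerRight e3 DerivedCategory.Q ≪≫ Functor.associator (pullCx h) T' DerivedCategory.Q) ≪≫
      (Functor.associator (resX Y) (pullCx h) (T' ⋙ DerivedCategory.Q)).symm ≪≫
      e4.symm ≪≫
      Functor.isoWhiskerRight (Functor.associator (resX Y) (pullCx h) DerivedCategory.Q ≪≫ (lpullResIso h).symm)
        (DCoh.LTensorCx M') ≪≫
      Functor.associator (resX Y ⋙ DerivedCategory.Q) (DCoh.Lpull h) (DCoh.LTensorCx M')
  exact ⟨Functor.isoWhiskerRight a.symm _ ≪≫ b ≪≫ Functor.isoWhiskerLeft _ c⟩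

/-- Naturality of the projection map in the complex on the source. -/
theorem ptm_natural_left (f : X ⟶ Y) {I I' : CochainComplex X.Modules ℤ} (ψ : I ⟶ I')
    (P : CochainComplex Y.Modules ℤ) :
    (DCoh.tensorCx.map ((pfCx f).map ψ)).app P ≫ ptm f I' P =
      ptm f I P ≫ (pfCx f).map ((DCoh.tensorCx.map ψ).app ((pullCx f).obj P)) := by
  have key : ∀ J, ptm f J P = mapTotHom (projTrans f) J P := fun J => by
    unfold ptm projPhi
    exact (congrArg (_ ≫ ·) ((pfCx f).map_id _)).trans (Category.comp_id _)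
  rw [key, key]
  refine HomologicalComplex.hom_ext _ _ fun n => mapBifunctor.hom_ext fun p q h => ?_
  show ιMapBifunctor ((pfCx f).obj I) P (DCoh.tensorBi (X := Y)) _ p q n h ≫
      (mapBifunctorMap ((pfCx f).map ψ) (𝟙 P) (DCoh.tensorBi (X := Y)) (ComplexShape.up ℤ)).f n ≫
        mapTotHomX (projTrans f) I' P n =
    ιMapBifunctor ((pfCx f).obj I) P (DCoh.tensorBi (X := Y)) _ p q n h ≫ mapTotHomX (projTrans f) I P n ≫
      (Scheme.Modules.pushforward f).map
        ((mapBifunctorMap ψ (𝟙 ((pullCx f).obj P)) (DCoh.tensorBi (X := X)) (ComplexShape.up ℤ)).f n)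
  rw [ι_mapBifunctorMap_assoc]
  erw [ι_mapTotHomX (projTrans f) I' P p q n h, reassoc_of% (ι_mapTotHomX (projTrans f) I P p q n h)]
  simp only [HomologicalComplex.id_f, CategoryTheory.Functor.map_id, Category.id_comp, Category.assoc]
  erw [← Functor.map_comp, ι_mapBifunctorMap ψ (𝟙 ((pullCx f).obj P)) (DCoh.tensorBi (X := X))]
  simp only [HomologicalComplex.id_f, CategoryTheory.Functor.map_id, Category.id_comp]
  erw [Functor.map_comp]
  exact ((reassoc_of% (congr_app ((projTrans f).naturality (ψ.f p)) (P.X q))) _)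

/-- Restricting a lifted transformation to a property where it is invertible. -/
theorem nonempty_iso_on_prop {H : Type*} [Category H] {F G : DCoh.D X ⥤ H}
    {R : CochainComplex X.Modules ℤ ⥤ CochainComplex X.Modules ℤ}
    (ε : R ⋙ DerivedCategory.Q ≅ DerivedCategory.Q)
    (τ : (R ⋙ DerivedCategory.Q) ⋙ F ⟶ (R ⋙ DerivedCategory.Q) ⋙ G)
    (P : ObjectProperty (DCoh.D X)) [P.IsClosedUnderIsomorphisms]
    (h : ∀ K, P (DerivedCategory.Q.obj K) → IsIso (τ.app K)) : Nonempty (P.ι ⋙ F ≅ P.ι ⋙ G) := by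
  let θ : DerivedCategory.Q ⋙ F ⟶ DerivedCategory.Q ⋙ G :=
    Functor.whiskerRight ε.inv F ≫ τ ≫ Functor.whiskerRight ε.hom G
  letI : Localization.Lifting DerivedCategory.Q (HomologicalComplex.quasiIso X.Modules (ComplexShape.up ℤ))
      (DerivedCategory.Q ⋙ F) F := ⟨Iso.refl _⟩
  letI : Localization.Lifting DerivedCategory.Q (HomologicalComplex.quasiIso X.Modules (ComplexShape.up ℤ))
      (DerivedCategory.Q ⋙ G) G := ⟨Iso.refl _⟩
  let Θ : F ⟶ G := Localization.liftNatTrans DerivedCategory.Q (HomologicalComplex.quasiIso X.Modules (ComplexShape.up ℤ))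
    (DerivedCategory.Q ⋙ F) (DerivedCategory.Q ⋙ G) F G θ
  haveI : ∀ V : P.FullSubcategory, IsIso ((Functor.whiskerLeft P.ι Θ).app V) := fun V => by
    let K := DerivedCategory.Q.objPreimage V.obj
    let e : DerivedCategory.Q.obj K ≅ V.obj := DerivedCategory.Q.objObjPreimageIso V.obj
    haveI := h K (P.prop_of_iso e.symm V.property)
    refine (NatTrans.isIso_app_iff_of_iso Θ e).1 ?_
    rw [Localization.liftNatTrans_app]
    exact IsIso.comp_isIso' (Iso.isIso_hom ((Iso.refl (DerivedCategory.Q ⋙ F)).app K))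
      (IsIso.comp_isIso' (IsIso.comp_isIso' (F.map_isIso _) (IsIso.comp_isIso' (h K (P.prop_of_iso e.symm V.property))
        (G.map_isIso _))) (Iso.isIso_inv ((Iso.refl (DerivedCategory.Q ⋙ G)).app K)))
  haveI := NatIso.isIso_of_isIso_app (Functor.whiskerLeft P.ι Θ)
  exact ⟨asIso (Functor.whiskerLeft P.ι Θ)⟩

section BaseChange

variable {X' S S' : Scheme.{u}}

/-- Base change as a natural transformation. -/
def baseChangeNat {f : X ⟶ S} {g : S' ⟶ S} {f' : X' ⟶ S'} {g' : X' ⟶ X}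
    [DCoh.HasRpush f] [DCoh.HasRpush g] [DCoh.HasLpull g] [DCoh.HasRpush f'] [DCoh.HasRpush g'] [DCoh.HasLpull g']
    (adj : DCoh.Lpull g ⊣ DCoh.Rpush g) (adj' : DCoh.Lpull g' ⊣ DCoh.Rpush g')
    (e : DCoh.Rpush g' ⋙ DCoh.Rpush f ≅ DCoh.Rpush f' ⋙ DCoh.Rpush g) :
    DCoh.Rpush f ⋙ DCoh.Lpull g ⟶ DCoh.Lpull g' ⋙ DCoh.Rpush f' where
  app K := DCoh.baseChangeApp adj adj' e K
  naturality K L φ := by
    show (DCoh.Lpull g).map ((DCoh.Rpush f).map φ) ≫ _ = _ ≫ (DCoh.Rpush f').map ((DCoh.Lpull g').map φ)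
    unfold DCoh.baseChangeApp
    rw [← Adjunction.homEquiv_naturality_left_symm, ← Adjunction.homEquiv_naturality_right_symm]
    refine congrArg _ ?_
    have h1 := congrArg (DCoh.Rpush f).map (adj'.unit.naturality φ)
    have h2 := e.hom.naturality ((DCoh.Lpull g').map φ)
    simp only [Functor.map_comp, Functor.id_map, Functor.comp_map] at h1 h2
    rw [reassoc_of% h1, h2, Category.assoc]

/-- Base change as an isomorphism of functors on objects with quasi-coherent cohomology. -/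
theorem nonempty_baseChange_qcoh (f : X ⟶ S) [QuasiCompact f] [QuasiSeparated f] (g : S' ⟶ S)
    (f' : X' ⟶ S') (g' : X' ⟶ X) (hsq : IsPullback g' f' f g) (ht : BC.TI f g)
    [DCoh.HasRpush f] [DCoh.HasLpull g] [DCoh.HasRpush f'] [DCoh.HasLpull g'] :
    Nonempty (ObjectProperty.ι (DCoh.IsQCohD (X := X)) ⋙ DCoh.Rpush f ⋙ DCoh.Lpull g ≅
      ObjectProperty.ι (DCoh.IsQCohD (X := X)) ⋙ DCoh.Lpull g' ⋙ DCoh.Rpush f') := by
  haveI := BC.hasRpush g
  haveI := BC.hasRpush g'
  obtain ⟨e, he⟩ := BC.exists_iso_baseChange f g f' g' hsq ht (lpullRpushAdj g) (lpullRpushAdj g')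
  let τ := baseChangeNat (lpullRpushAdj g) (lpullRpushAdj g') e
  haveI : ∀ V, IsIso ((Functor.whiskerLeft (ObjectProperty.ι (DCoh.IsQCohD (X := X))) τ).app V) :=
    fun V => he V.obj V.property
  haveI := NatIso.isIso_of_isIso_app (Functor.whiskerLeft (ObjectProperty.ι (DCoh.IsQCohD (X := X))) τ)
  exact ⟨asIso (Functor.whiskerLeft (ObjectProperty.ι (DCoh.IsQCohD (X := X))) τ)⟩

end BaseChange

instance isClosedUnderIsomorphisms_isQCohD :
    ObjectProperty.IsClosedUnderIsomorphisms (DCoh.IsQCohD (X := X)) where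
  of_iso e h := TildeD.isQCohD_of_iso e h

section Projection

variable (f : X ⟶ Y) [QuasiCompact f] [QuasiSeparated f] [DCoh.HasRpush f]

/-- The projection formula, naturally in the object upstairs. -/
theorem nonempty_proj_left [DCoh.HasLpull f] (K : CochainComplex Y.Modules ℤ) [DCoh.HasLTensorCx K]
    (hK : DCoh.IsQCohD (DerivedCategory.Q.obj K)) (L : CochainComplex X.Modules ℤ) [DCoh.HasLTensorCx L]
    (e : DerivedCategory.Q.obj L ≅ (DCoh.Lpull f).obj (DerivedCategory.Q.obj K)) :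
    Nonempty (ObjectProperty.ι (DCoh.IsQCohD (X := X)) ⋙ DCoh.Rpush f ⋙ DCoh.LTensorCx K ≅
      ObjectProperty.ι (DCoh.IsQCohD (X := X)) ⋙ DCoh.LTensorCx L ⋙ DCoh.Rpush f) := by
  let M := (resX Y).obj K
  haveI := quasiIso_resXπ K
  haveI : IsIso (DerivedCategory.Q.map ((resXπ Y).app K)) := inferInstance
  let eM : DerivedCategory.Q.obj M ≅ DerivedCategory.Q.obj K := asIso (DerivedCategory.Q.map ((resXπ Y).app K))
  have hM : DCoh.IsKFlat M := isKFlat_resX K
  have hMq : DCoh.IsQCohD (DerivedCategory.Q.obj M) := TildeD.isQCohD_of_iso eM.symm hK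
  let M' := (pullCx f).obj M
  have hM' : DCoh.IsKFlat M' := isKFlat_pullback f hM
  obtain ⟨a⟩ := nonempty_lTensor_of_iso (E := K) (E' := M) eM
  obtain ⟨c⟩ := nonempty_lTensor_of_iso (E := L) (E' := M')
    ((lpullIsoK f M hM).symm ≪≫ (DCoh.Lpull f).mapIso eM ≪≫ e.symm)
  obtain ⟨N, j, hN⟩ := Groth.Agent.KInj.exists_functorial_resolution X.Modules
  haveI : ∀ I, (N.obj I).IsKInjective := fun I => (hN I).1
  haveI : ∀ I, QuasiIso (j.app I) := fun I => (hN I).2.2.1
  haveI : ∀ I, IsIso ((Functor.whiskerRight j DerivedCategory.Q).app I) := fun I =>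
    inferInstanceAs (IsIso (DerivedCategory.Q.map (j.app I)))
  haveI := NatIso.isIso_of_isIso_app (Functor.whiskerRight j DerivedCategory.Q)
  let ε : N ⋙ DerivedCategory.Q ≅ DerivedCategory.Q :=
    (asIso (Functor.whiskerRight j DerivedCategory.Q)).symm ≪≫ DerivedCategory.Q.leftUnitor
  let T := DCoh.tensorCx.flip.obj M
  let T' := DCoh.tensorCx.flip.obj M'
  haveI : ∀ I, IsIso ((Functor.whiskerLeft N (rpushNat f)).app I) := fun I => by
    rw [Functor.whiskerLeft_app, rpushNat_app_eq]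
    infer_instance
  haveI := NatIso.isIso_of_isIso_app (Functor.whiskerLeft N (rpushNat f))
  let φ : (N ⋙ pfCx f) ⋙ T ⋙ DerivedCategory.Q ⟶ ((N ⋙ T') ⋙ DerivedCategory.Q) ⋙ DCoh.Rpush f :=
    { app := fun I => (projTau f (N.obj I)).app M
      naturality := fun I I' ψ => by
        show DerivedCategory.Q.map ((DCoh.tensorCx.map ((pfCx f).map (N.map ψ))).app M) ≫
            DerivedCategory.Q.map (ptm f (N.obj I') M) ≫ _ =
          (DerivedCategory.Q.map (ptm f (N.obj I) M) ≫ _) ≫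
            (DCoh.Rpush f).map (DerivedCategory.Q.map ((DCoh.tensorCx.map (N.map ψ)).app M'))
        rw [← Functor.map_comp_assoc, ptm_natural_left f (N.map ψ) M, Functor.map_comp_assoc, Category.assoc]
        exact congrArg (_ ≫ ·) ((rpushNat f).naturality _) }
  let a1 : (N ⋙ DerivedCategory.Q) ⋙ DCoh.Rpush f ≅ (N ⋙ pfCx f) ⋙ DerivedCategory.Q :=
    Functor.associator _ _ _ ≪≫ (asIso (Functor.whiskerLeft N (rpushNat f))).symm ≪≫ (Functor.associator _ _ _).symm
  let a2 : ((N ⋙ pfCx f) ⋙ DerivedCategory.Q) ⋙ DCoh.LTensorCx M ≅ (N ⋙ pfCx f) ⋙ T ⋙ DerivedCategory.Q :=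
    Functor.associator _ _ _ ≪≫ Functor.isoWhiskerLeft (N ⋙ pfCx f) (lTensorQIso M hM)
  let a3 : (N ⋙ DerivedCategory.Q) ⋙ DCoh.LTensorCx M' ≅ (N ⋙ T') ⋙ DerivedCategory.Q :=
    Functor.associator _ _ _ ≪≫ Functor.isoWhiskerLeft N (lTensorQIso M' hM') ≪≫ (Functor.associator N T' _).symm
  obtain ⟨b⟩ : Nonempty (ObjectProperty.ι (DCoh.IsQCohD (X := X)) ⋙ DCoh.Rpush f ⋙ DCoh.LTensorCx M ≅
      ObjectProperty.ι (DCoh.IsQCohD (X := X)) ⋙ DCoh.LTensorCx M' ⋙ DCoh.Rpush f) := by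
    refine nonempty_iso_on_prop ε ((Functor.associator _ _ _).inv ≫ Functor.whiskerRight a1.hom _ ≫ a2.hom ≫ φ ≫
      Functor.whiskerRight a3.inv _ ≫ (Functor.associator _ _ _).hom) _ fun I hI => ?_
    haveI : IsIso (φ.app I) := isIso_projTau f (N.obj I) (TildeD.isQCohD_of_iso (ε.app I).symm hI) M hM hMq
    simp only [NatTrans.comp_app]
    infer_instance
  exact ⟨Functor.isoWhiskerLeft _ (Functor.isoWhiskerLeft _ a.symm) ≪≫ b ≪≫
    Functor.isoWhiskerLeft _ (Functor.isoWhiskerRight c _)⟩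

/-- The projection formula, naturally in the object downstairs. -/
theorem nonempty_proj_right [DCoh.HasLpull f] (W : CochainComplex X.Modules ℤ) [DCoh.HasLTensorCx W]
    (hW : DCoh.IsQCohD (DerivedCategory.Q.obj W)) (K : CochainComplex Y.Modules ℤ) [DCoh.HasLTensorCx K]
    (e : DerivedCategory.Q.obj K ≅ (DCoh.Rpush f).obj (DerivedCategory.Q.obj W)) :
    Nonempty (ObjectProperty.ι (DCoh.IsQCohD (X := Y)) ⋙ DCoh.LTensorCx K ≅
      ObjectProperty.ι (DCoh.IsQCohD (X := Y)) ⋙ DCoh.Lpull f ⋙ DCoh.LTensorCx W ⋙ DCoh.Rpush f) := by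
  obtain ⟨I, φ, hI, hφ⟩ := hres_modules X W
  haveI := hI
  haveI := hφ
  haveI : IsIso (DerivedCategory.Q.map φ) := inferInstance
  let eI : DerivedCategory.Q.obj W ≅ DerivedCategory.Q.obj I := asIso (DerivedCategory.Q.map φ)
  have hIq : DCoh.IsQCohD (DerivedCategory.Q.obj I) := TildeD.isQCohD_of_iso eI hW
  let A := (pfCx f).obj I
  obtain ⟨a⟩ := nonempty_lTensor_of_iso (E := K) (E' := A)
    (rpushInjIso f I ≪≫ (DCoh.Rpush f).mapIso eI.symm ≪≫ e.symm)
  obtain ⟨c⟩ := nonempty_lTensor_of_iso (E := W) (E' := I) eI.symm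
  haveI : ∀ P, IsIso ((Functor.whiskerRight (resXπ Y) DerivedCategory.Q).app P) := fun P => isIso_Q_resXπ P
  haveI := NatIso.isIso_of_isIso_app (Functor.whiskerRight (resXπ Y) DerivedCategory.Q)
  let ε : resX Y ⋙ DerivedCategory.Q ≅ DerivedCategory.Q :=
    asIso (Functor.whiskerRight (resXπ Y) DerivedCategory.Q) ≪≫ DerivedCategory.Q.leftUnitor
  let sY : DCoh.tensorCx.flip.obj A ≅ DCoh.tensorCx.obj A :=
    NatIso.ofComponents (F := (DCoh.tensorCx (X := Y)).flip.obj A) (fun P => symS P A)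
      fun {P P'} β => symS_natural_left β A
  let sX : DCoh.tensorCx.flip.obj I ≅ DCoh.tensorCx.obj I :=
    NatIso.ofComponents (F := (DCoh.tensorCx (X := X)).flip.obj I) (fun P => symS P I)
      fun {P P'} β => symS_natural_left β I
  let a1 : (resX Y ⋙ DerivedCategory.Q) ⋙ DCoh.LTensorCx A ≅ resX Y ⋙ projSrc f I :=
    lTensorFlatIso A (resX Y) (fun P => isKFlat_resX P) ≪≫
      Functor.isoWhiskerLeft (resX Y) (Functor.isoWhiskerRight sY DerivedCategory.Q)
  let a2 : ((resX Y ⋙ pullCx f) ⋙ DerivedCategory.Q) ⋙ DCoh.LTensorCx I ≅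
      resX Y ⋙ (pullCx f ⋙ DCoh.tensorCx.obj I) ⋙ DerivedCategory.Q :=
    lTensorFlatIso I (resX Y ⋙ pullCx f) (fun P => isKFlat_pullback f (isKFlat_resX P)) ≪≫
      Functor.associator _ _ _ ≪≫
      Functor.isoWhiskerLeft (resX Y) ((Functor.associator _ _ _).symm ≪≫
        Functor.isoWhiskerRight (Functor.isoWhiskerLeft (pullCx f) sX) DerivedCategory.Q)
  let a3 : (resX Y ⋙ DerivedCategory.Q) ⋙ DCoh.Lpull f ⋙ DCoh.LTensorCx I ≅
      resX Y ⋙ (pullCx f ⋙ DCoh.tensorCx.obj I) ⋙ DerivedCategory.Q :=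
    (Functor.associator _ _ _).symm ≪≫
      Functor.isoWhiskerRight (lpullResIso f ≪≫ (Functor.associator _ _ _).symm) _ ≪≫ a2
  let a4 : (resX Y ⋙ DerivedCategory.Q) ⋙ DCoh.Lpull f ⋙ DCoh.LTensorCx I ⋙ DCoh.Rpush f ≅
      resX Y ⋙ projTgt f I :=
    Functor.isoWhiskerLeft _ (Functor.associator _ _ _).symm ≪≫ (Functor.associator _ _ _).symm ≪≫
      Functor.isoWhiskerRight a3 _ ≪≫ Functor.associator _ _ _
  obtain ⟨b⟩ : Nonempty (ObjectProperty.ι (DCoh.IsQCohD (X := Y)) ⋙ DCoh.LTensorCx A ≅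
      ObjectProperty.ι (DCoh.IsQCohD (X := Y)) ⋙ DCoh.Lpull f ⋙ DCoh.LTensorCx I ⋙ DCoh.Rpush f) := by
    refine nonempty_iso_on_prop ε (a1.hom ≫ Functor.whiskerLeft (resX Y) (projTau f I) ≫ a4.inv) _ fun P hP => ?_
    haveI : IsIso ((Functor.whiskerLeft (resX Y) (projTau f I)).app P) :=
      isIso_projTau f I hIq _ (isKFlat_resX P) (TildeD.isQCohD_of_iso (ε.app P).symm hP)
    simp only [NatTrans.comp_app]
    infer_instance
  exact ⟨Functor.isoWhiskerLeft _ a.symm ≪≫ b ≪≫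
    Functor.isoWhiskerLeft _ (Functor.isoWhiskerLeft _ (Functor.isoWhiskerRight c _))⟩

end Projection

end Groth.Agent.FMKLib
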