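import Groth.Agent.DCohMore.BCMain
import Groth.Agent.DCohMore.DescFPPF
import Groth.Agent.DCohMore.RHomQC
import Groth.Agent.DCohLib.LpullTensor
import Groth.Agent.DCohLib.LTensorCongr
import Groth.Agent.TildeD.QCohPull
import Groth.Agent.TildeD.TensorQCoh
import Groth.Prelude.Def_DualFM

/-!
# Base change of composite kernels
-/

set_option autoImplicit false
set_option linter.style.haveILetI false
set_option backward.isDefEq.respectTransparency false
set_option maxHeartbeats 1000000

universe u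

open CategoryTheory CategoryTheory.Limits AlgebraicGeometry

attribute [local instance] HasDerivedCategory.standard

noncomputable section

namespace Groth.Agent.FMKLib

open Groth.Agent.DCohLib Groth.Agent.DCohMore

/-- Fibre products commute with base change. -/
theorem isPullback_map_sq {A B C A' B' C' : Scheme.{u}} {α : A' ⟶ A} {β : B' ⟶ B} {γ : C' ⟶ C}
    {f : A ⟶ B} {h : C ⟶ B} {f' : A' ⟶ B'} {h' : C' ⟶ B'}
    (hA : IsPullback α f' f β) (hC : IsPullback γ h' h β) :
    IsPullback (pullback.map f' h' f h α γ β hA.w.symm hC.w.symm) (pullback.fst f' h') (pullback.fst f h) α := by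
  refine IsPullback.of_right ?_ (by simp) (IsPullback.of_hasPullback f h).flip
  rw [show pullback.map f' h' f h α γ β hA.w.symm hC.w.symm ≫ pullback.snd f h = pullback.snd f' h' ≫ γ by simp,
    hA.w]
  exact (IsPullback.of_hasPullback f' h').flip.paste_horiz hC

theorem isPullback_map_sq_snd {A B C A' B' C' : Scheme.{u}} {α : A' ⟶ A} {β : B' ⟶ B} {γ : C' ⟶ C}
    {f : A ⟶ B} {h : C ⟶ B} {f' : A' ⟶ B'} {h' : C' ⟶ B'}
    (hA : IsPullback α f' f β) (hC : IsPullback γ h' h β) :
    IsPullback (pullback.map f' h' f h α γ β hA.w.symm hC.w.symm) (pullback.snd f' h') (pullback.snd f h) γ := by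
  refine IsPullback.of_right ?_ (by simp) (IsPullback.of_hasPullback f h)
  rw [show pullback.map f' h' f h α γ β hA.w.symm hC.w.symm ≫ pullback.fst f h = pullback.fst f' h' ≫ α by simp,
    hC.w]
  exact (IsPullback.of_hasPullback f' h').paste_horiz hA

section Triple

variable {S X Y Z : Scheme.{u}} (a : X ⟶ S) (b : Y ⟶ S) (c : Z ⟶ S)

/-- The middle projection of the triple product is a base change of `X ×_S Y ⟶ X`. -/
theorem isPullback_p13 :
    IsPullback (FMK.p13 a b c) (FMK.p12 a b c) (pullback.fst a c) (pullback.fst a b) := by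
  refine IsPullback.of_right ?_ (FMK.p13_fst a b c) (IsPullback.of_hasPullback a c).flip
  rw [FMK.p13_snd]
  have h : IsPullback (FMK.p23 a b c ≫ pullback.snd b c) (FMK.p12 a b c) c (pullback.snd a b ≫ b) :=
    (IsPullback.of_hasPullback (pullback.snd a b) (pullback.fst b c)).flip.paste_horiz
      (IsPullback.of_hasPullback b c).flip
  rwa [← pullback.condition] at h

theorem flat_p13 [Flat b] : Flat (FMK.p13 a b c) :=
  MorphismProperty.of_isPullback (P := @Flat) (isPullback_p13 a b c).flip inferInstance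

theorem quasiCompact_p13 [QuasiCompact b] : QuasiCompact (FMK.p13 a b c) :=
  MorphismProperty.of_isPullback (P := @QuasiCompact) (isPullback_p13 a b c).flip inferInstance

theorem quasiSeparated_p13 [QuasiSeparated b] : QuasiSeparated (FMK.p13 a b c) :=
  MorphismProperty.of_isPullback (P := @QuasiSeparated) (isPullback_p13 a b c).flip inferInstance

theorem flat_p23 [Flat a] : Flat (FMK.p23 a b c) := inferInstance

end Triple

variable {X Y : Scheme.{u}}

/-- Along a flat morphism the derived inverse image is the termwise one. -/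
theorem nonempty_lpull_Q_flat (f : X ⟶ Y) [Flat f] [DCoh.HasLpull f] (K : CochainComplex Y.Modules ℤ) :
    Nonempty ((DCoh.Lpull f).obj (DerivedCategory.Q.obj K) ≅ DerivedCategory.Q.obj ((pullCx f).obj K)) := by
  haveI : PreservesFiniteLimits (Scheme.Modules.pullback f) := preservesFiniteLimits_pullback_of_flat f
  haveI : PreservesColimitsOfSize.{u, u} (Scheme.Modules.pullback f) :=
    (Scheme.Modules.pullbackPushforwardAdjunction f).leftAdjoint_preservesColimits
  haveI : PreservesColimitsOfSize.{0, 0} (Scheme.Modules.pullback f) :=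
    preservesColimitsOfSize_shrink.{0, u, 0, u} _
  haveI : PreservesFiniteColimits (Scheme.Modules.pullback f) :=
    PreservesColimitsOfSize.preservesFiniteColimits _
  haveI := quasiIso_resXπ K
  haveI : QuasiIso ((pullCx f).map ((resXπ Y).app K)) := inferInstance
  haveI : IsIso (DerivedCategory.Q.map ((resXπ Y).app K)) := inferInstance
  haveI : IsIso (DerivedCategory.Q.map ((pullCx f).map ((resXπ Y).app K))) := inferInstance
  exact ⟨(DCoh.Lpull f).mapIso (asIso (DerivedCategory.Q.map ((resXπ Y).app K))).symm ≪≫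
    lpullIsoK f _ (isKFlat_resX K) ≪≫ asIso (DerivedCategory.Q.map ((pullCx f).map ((resXπ Y).app K)))⟩

/-- Derived inverse images of derived tensor products, with any representatives. -/
theorem nonempty_lpull_lTensor_obj (h : X ⟶ Y) [DCoh.HasLpull h] (L : CochainComplex Y.Modules ℤ)
    [DCoh.HasLTensorCx L] (L' : CochainComplex X.Modules ℤ) [DCoh.HasLTensorCx L']
    (e : DerivedCategory.Q.obj L' ≅ (DCoh.Lpull h).obj (DerivedCategory.Q.obj L)) (W : DCoh.D Y) :
    Nonempty ((DCoh.Lpull h).obj ((DCoh.LTensorCx L).obj W) ≅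
      (DCoh.LTensorCx L').obj ((DCoh.Lpull h).obj W)) := by
  let M := (resX Y).obj L
  haveI := quasiIso_resXπ L
  haveI : IsIso (DerivedCategory.Q.map ((resXπ Y).app L)) := inferInstance
  let eM : DerivedCategory.Q.obj M ≅ DerivedCategory.Q.obj L := asIso (DerivedCategory.Q.map ((resXπ Y).app L))
  obtain ⟨a⟩ := nonempty_lTensor_of_iso (E := L) (E' := M) eM
  obtain ⟨b⟩ := nonempty_lpull_lTensor h M (isKFlat_resX L) W
  obtain ⟨c⟩ := nonempty_lTensor_of_iso (E := L') (E' := (pullCx h).obj M)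
    ((lpullIsoK h M (isKFlat_resX L)).symm ≪≫ (DCoh.Lpull h).mapIso eM ≪≫ e.symm)
  exact ⟨(DCoh.Lpull h).mapIso (a.symm.app W) ≪≫ b ≪≫ c.app _⟩

/-- Derived inverse images along a commutative square. -/
theorem nonempty_lpull_square {W U V : Scheme.{u}} (p : W ⟶ U) (r : U ⟶ Y) (q : W ⟶ V) (s : V ⟶ Y)
    (h : p ≫ r = q ≫ s) [DCoh.HasLpull p] [DCoh.HasLpull r] [DCoh.HasLpull q] [DCoh.HasLpull s] :
    Nonempty (DCoh.Lpull r ⋙ DCoh.Lpull p ≅ DCoh.Lpull s ⋙ DCoh.Lpull q) := by
  have key : ∀ (k : W ⟶ Y) (_ : DCoh.HasLpull k), p ≫ r = k →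
      Nonempty (DCoh.Lpull r ⋙ DCoh.Lpull p ≅ DCoh.Lpull k) := by
    rintro k _ rfl
    exact nonempty_lpullCompIso p r
  haveI := hasLpull (q ≫ s)
  obtain ⟨e⟩ := key (q ≫ s) inferInstance h
  obtain ⟨e'⟩ := nonempty_lpullCompIso q s
  exact ⟨e ≪≫ e'.symm⟩

variable {S S' X Y Z : Scheme.{u}} (a : X ⟶ S) (b : Y ⟶ S) (c : Z ⟶ S) (g : S' ⟶ S)

/-- The induced map of double products. -/
abbrev map₂ : pullback (pullback.snd a g) (pullback.snd b g) ⟶ pullback a b :=
  pullback.map (pullback.snd a g) (pullback.snd b g) a b (pullback.fst a g) (pullback.fst b g) g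
    pullback.condition.symm pullback.condition.symm

/-- The induced map of triple products. -/
abbrev map₃ : FMK.T (pullback.snd a g) (pullback.snd b g) (pullback.snd c g) ⟶ FMK.T a b c :=
  pullback.map _ _ _ _ (map₂ a b g) (map₂ b c g) (pullback.fst b g) (by simp) (by simp)

theorem map₃_p12 : map₃ a b c g ≫ FMK.p12 a b c =
    FMK.p12 (pullback.snd a g) (pullback.snd b g) (pullback.snd c g) ≫ map₂ a b g := pullback.lift_fst _ _ _

theorem map₃_p23 : map₃ a b c g ≫ FMK.p23 a b c =
    FMK.p23 (pullback.snd a g) (pullback.snd b g) (pullback.snd c g) ≫ map₂ b c g := pullback.lift_snd _ _ _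

theorem map₃_p13 : map₃ a b c g ≫ FMK.p13 a b c =
    FMK.p13 (pullback.snd a g) (pullback.snd b g) (pullback.snd c g) ≫ map₂ a c g := by
  apply pullback.hom_ext
  · rw [Category.assoc, Category.assoc, FMK.p13_fst, ← Category.assoc, map₃_p12, Category.assoc,
      pullback.lift_fst, pullback.lift_fst, ← Category.assoc, ← Category.assoc, FMK.p13_fst]
  · rw [Category.assoc, Category.assoc, FMK.p13_snd, ← Category.assoc, map₃_p23, Category.assoc,
      pullback.lift_snd, pullback.lift_snd, ← Category.assoc, ← Category.assoc, FMK.p13_snd]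

theorem isPullback_map₃ :
    IsPullback (map₃ a b c g) (FMK.p13 (pullback.snd a g) (pullback.snd b g) (pullback.snd c g))
      (FMK.p13 a b c) (map₂ a c g) := by
  have hX := IsPullback.of_hasPullback a g
  have hY := IsPullback.of_hasPullback b g
  have hZ := IsPullback.of_hasPullback c g
  have hac := (isPullback_map_sq hX hZ).paste_vert hX
  have h : IsPullback (map₃ a b c g)
      (FMK.p12 (pullback.snd a g) (pullback.snd b g) (pullback.snd c g) ≫
        pullback.fst (pullback.snd a g) (pullback.snd b g) ≫ pullback.snd a g)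
      (FMK.p12 a b c ≫ pullback.fst a b ≫ a) g :=
    (isPullback_map_sq (isPullback_map_sq_snd hX hY) (isPullback_map_sq hY hZ)).paste_vert
      ((isPullback_map_sq hX hY).paste_vert hX)
  refine IsPullback.of_bot ?_ (map₃_p13 a b c g) hac
  rw [← Category.assoc, ← Category.assoc, FMK.p13_fst, FMK.p13_fst, Category.assoc, Category.assoc]
  exact h

/-- Formation of the composite kernel commutes with base change. -/
theorem nonempty_lpull_conv [Flat a] [Flat b] [QuasiCompact b] [QuasiSeparated b]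
    (K : CochainComplex (pullback a b).Modules ℤ) (M : CochainComplex (pullback b c).Modules ℤ)
    (hK : DCoh.IsQCohD (DerivedCategory.Q.obj K)) (hM : DCoh.IsQCohD (DerivedCategory.Q.obj M))
    (K₁ : CochainComplex (pullback (pullback.snd a g) (pullback.snd b g)).Modules ℤ)
    (M₁ : CochainComplex (pullback (pullback.snd b g) (pullback.snd c g)).Modules ℤ)
    [DCoh.HasLpull (map₂ a b g)] [DCoh.HasLpull (map₂ b c g)] [DCoh.HasLpull (map₂ a c g)]
    (eK : DerivedCategory.Q.obj K₁ ≅ (DCoh.Lpull (map₂ a b g)).obj (DerivedCategory.Q.obj K))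
    (eM : DerivedCategory.Q.obj M₁ ≅ (DCoh.Lpull (map₂ b c g)).obj (DerivedCategory.Q.obj M))
    [DCoh.HasLpull (FMK.p12 a b c)] [DCoh.HasLTensorCx ((FMK.cxPull (FMK.p23 a b c)).obj M)]
    [DCoh.HasRpush (FMK.p13 a b c)]
    [DCoh.HasLpull (FMK.p12 (pullback.snd a g) (pullback.snd b g) (pullback.snd c g))]
    [DCoh.HasLTensorCx ((FMK.cxPull (FMK.p23 (pullback.snd a g) (pullback.snd b g) (pullback.snd c g))).obj M₁)]
    [DCoh.HasRpush (FMK.p13 (pullback.snd a g) (pullback.snd b g) (pullback.snd c g))] :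
    Nonempty ((DCoh.Lpull (map₂ a c g)).obj (FMK.conv a b c K ((FMK.cxPull (FMK.p23 a b c)).obj M)) ≅
      FMK.conv (pullback.snd a g) (pullback.snd b g) (pullback.snd c g) K₁
        ((FMK.cxPull (FMK.p23 (pullback.snd a g) (pullback.snd b g) (pullback.snd c g))).obj M₁)) := by
  let a' := pullback.snd a g
  let b' := pullback.snd b g
  let c' := pullback.snd c g
  let h := map₃ a b c g
  haveI : Flat a' := inferInstanceAs (Flat (pullback.snd a g))
  haveI := flat_p13 a b c
  haveI := quasiCompact_p13 a b c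
  haveI := quasiSeparated_p13 a b c
  haveI : Flat (FMK.p23 a b c) := flat_p23 a b c
  haveI : Flat (FMK.p23 a' b' c') := flat_p23 a' b' c'
  haveI := BC.hasRpush (map₂ a c g)
  haveI := BC.hasRpush h
  haveI := hasLpull h
  haveI := hasLpull (FMK.p23 a b c)
  haveI := hasLpull (FMK.p23 a' b' c')
  obtain ⟨sK⟩ := nonempty_lpull_square h (FMK.p12 a b c) (FMK.p12 a' b' c') (map₂ a b g) (map₃_p12 a b c g)
  obtain ⟨sM⟩ := nonempty_lpull_square h (FMK.p23 a b c) (FMK.p23 a' b' c') (map₂ b c g) (map₃_p23 a b c g)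
  obtain ⟨fM⟩ := nonempty_lpull_Q_flat (FMK.p23 a b c) M
  obtain ⟨fM'⟩ := nonempty_lpull_Q_flat (FMK.p23 a' b' c') M₁
  obtain ⟨t⟩ := nonempty_lpull_lTensor_obj h ((FMK.cxPull (FMK.p23 a b c)).obj M)
    ((FMK.cxPull (FMK.p23 a' b' c')).obj M₁)
    (fM'.symm ≪≫ (DCoh.Lpull (FMK.p23 a' b' c')).mapIso eM ≪≫ (sM.app _).symm ≪≫ (DCoh.Lpull h).mapIso fM)
    ((DCoh.Lpull (FMK.p12 a b c)).obj (DerivedCategory.Q.obj K))
  have hW : DCoh.IsQCohD ((DCoh.LTensorCx ((FMK.cxPull (FMK.p23 a b c)).obj M)).obj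
      ((DCoh.Lpull (FMK.p12 a b c)).obj (DerivedCategory.Q.obj K))) :=
    TildeD.isQCohD_lTensorCx _ (TildeD.isQCohD_of_iso fM (TildeD.isQCohD_lpull _ _ hM)) _
      (TildeD.isQCohD_lpull _ _ hK)
  obtain ⟨e, he⟩ := BC.exists_iso_baseChange (FMK.p13 a b c) (map₂ a c g) (FMK.p13 a' b' c') h
    (isPullback_map₃ a b c g) BC.TI.of_flat_left (lpullRpushAdj (map₂ a c g)) (lpullRpushAdj h)
  haveI := he _ hW
  exact ⟨asIso (DCoh.baseChangeApp (lpullRpushAdj (map₂ a c g)) (lpullRpushAdj h) e _) ≪≫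
    (DCoh.Rpush (FMK.p13 a' b' c')).mapIso (t ≪≫
      (DCoh.LTensorCx ((FMK.cxPull (FMK.p23 a' b' c')).obj M₁)).mapIso
        (sK.app _ ≪≫ (DCoh.Lpull (FMK.p12 a' b' c')).mapIso eK.symm))⟩

end Groth.Agent.FMKLib
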