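import Groth.Agent.DCohLib.ProjClosed
import Groth.Agent.DCohLib.TensorLinv
import Groth.Agent.DCohLib.RpushTri
import Groth.Agent.DCohMore.BCTheta

/-!
# Derived tensor products with the structure sheaf of a closed subscheme
-/

set_option autoImplicit false
set_option linter.style.haveILetI false
set_option backward.isDefEq.respectTransparency false
set_option maxHeartbeats 1000000

universe u

open CategoryTheory CategoryTheory.Limits AlgebraicGeometry

attribute [local instance] HasDerivedCategory.standard

noncomputable section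

namespace Groth.Agent.FMKLib

open Groth.Agent.KFlat Groth.Agent.DCohLib Groth.Agent.DCohMore Groth.Agent.DCohMore.BC

variable {X Y : Scheme.{u}}

/-- Tensoring with a module in degree zero is termwise tensoring, naturally. -/
def totSingleNatIso (M : Y.Modules) :
    ((DCoh.tensorBi (X := Y)).flip.obj M).mapHomologicalComplex (ComplexShape.up ℤ) ≅
      DCoh.tensorCx.flip.obj ((HomologicalComplex.single Y.Modules (ComplexShape.up ℤ) 0).obj M) :=
  NatIso.ofComponents (fun I => totSingleIso I M) fun {I I'} φ => HomologicalComplex.hom_ext _ _ fun n => by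
    show ((DCoh.tensorBi (X := Y)).map (φ.f n)).app M ≫
        singleι (DCoh.tensorBi (X := Y)) I' 0 M n n (add_zero n) =
      singleι (DCoh.tensorBi (X := Y)) I 0 M n n (add_zero n) ≫
        (HomologicalComplex.mapBifunctorMap φ (𝟙 _) (DCoh.tensorBi (X := Y)) (ComplexShape.up ℤ)).f n
    simp only [singleι, Category.assoc]
    erw [HomologicalComplex.ι_mapBifunctorMap]
    simp only [HomologicalComplex.id_f, CategoryTheory.Functor.map_id, Category.id_comp]
    exact ((reassoc_of% ((DCoh.tensorBi (X := Y)).map (φ.f n)).naturality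
      (HomologicalComplex.singleObjXSelf (ComplexShape.up ℤ) 0 M).inv) _).symm

variable (i : X ⟶ Y) [IsClosedImmersion i]

/-- Tensoring with the structure sheaf of a closed subscheme is restriction to it. -/
def tensorPushUnitIso :
    (DCoh.tensorBi (X := Y)).flip.obj ((Scheme.Modules.pushforward i).obj (Coh.structureModule X)) ≅
      Scheme.Modules.pullback i ⋙ Scheme.Modules.pushforward i :=
  Groth.Agent.ModTensor.tensorSymm Y.sheaf _ ≪≫
    ((projNatIso i).app (Coh.structureModule X)).symm ≪≫
    Functor.isoWhiskerRight (Functor.isoWhiskerLeft (Scheme.Modules.pullback i)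
      ((Groth.Agent.ModTensor.tensorSymm X.sheaf (Coh.structureModule X)).symm ≪≫
        Groth.Agent.ModTensor.tensorUnitRight X.sheaf) ≪≫
      Functor.rightUnitor _) _

variable [DCoh.HasRpush i]

/-- The derived direct image along a closed immersion is the termwise one. -/
theorem nonempty_rpush_closed :
    Nonempty (DCoh.Rpush i ≅ (Scheme.Modules.pushforward i).mapDerivedCategory) := by
  let W := HomotopyCategory.quasiIso X.Modules (ComplexShape.up ℤ)
  let e := (Scheme.Modules.pushforward i).mapDerivedCategoryFactorsh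
  haveI : (Scheme.Modules.pushforward i).mapDerivedCategory.IsRightDerivedFunctor e.inv W :=
    Functor.isRightDerivedFunctor_of_inverts W _ e
  exact ⟨Functor.rightDerivedUnique _ _ (rpushUnit i) e.inv W⟩

/-- `- ⊗ i_*O = Ri_* Li^*`. -/
theorem nonempty_lTensor_push_unit [DCoh.HasLpull i] (K : CochainComplex Y.Modules ℤ) [DCoh.HasLTensorCx K]
    (e : DerivedCategory.Q.obj K ≅ DerivedCategory.Q.obj ((HomologicalComplex.single Y.Modules (ComplexShape.up ℤ) 0).obj
      ((Scheme.Modules.pushforward i).obj (Coh.structureModule X)))) :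
    Nonempty (DCoh.LTensorCx K ≅ DCoh.Lpull i ⋙ DCoh.Rpush i) := by
  let G := (Scheme.Modules.pushforward i).obj (Coh.structureModule X)
  let K' := (HomologicalComplex.single Y.Modules (ComplexShape.up ℤ) 0).obj G
  obtain ⟨a⟩ := nonempty_lTensor_of_iso (E := K') (E' := K) e
  obtain ⟨r⟩ := nonempty_rpush_closed i
  let M := (Scheme.Modules.pushforward i).mapDerivedCategory
  let tail : ((Scheme.Modules.pullback i).mapHomologicalComplex (ComplexShape.up ℤ) ⋙ DerivedCategory.Q) ⋙ M ≅
      DCoh.tensorCxQ K' :=
    Functor.associator _ _ _ ≪≫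
      Functor.isoWhiskerLeft _ (Scheme.Modules.pushforward i).mapDerivedCategoryFactors ≪≫
      (Functor.associator _ _ _).symm ≪≫
      Functor.isoWhiskerRight (NatIso.mapHomologicalComplex (tensorPushUnitIso i).symm (ComplexShape.up ℤ) ≪≫
        totSingleNatIso G) DerivedCategory.Q
  let α : DerivedCategory.Q ⋙ DCoh.Lpull i ⋙ M ⟶ DCoh.tensorCxQ K' :=
    (Functor.associator _ _ _).inv ≫ Functor.whiskerRight (lpullNat i) M ≫ tail.hom
  haveI : (DCoh.Lpull i ⋙ M).IsLeftDerivedFunctor α
      (HomologicalComplex.quasiIso Y.Modules (ComplexShape.up ℤ)) := by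
    refine (tensorAdapted K').isLeftDerivedFunctor DerivedCategory.Q _ _ fun A => ?_
    simp only [α, NatTrans.comp_app, Functor.associator_inv_app, Functor.whiskerRight_app, Category.id_comp]
    haveI := isIso_lpullNat_app_kFlat i ((resX Y).obj A) (isKFlat_resX A)
    exact IsIso.comp_isIso' (inferInstanceAs (IsIso (M.map ((lpullNat i).app ((resX Y).obj A))))) inferInstance
  exact ⟨a ≪≫ (Functor.leftDerivedUnique (DCoh.Lpull i ⋙ M) (DCoh.LTensorCx K') (lTensorCounit K') α
      (HomologicalComplex.quasiIso Y.Modules (ComplexShape.up ℤ))).symm.symm ≪≫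
    Functor.isoWhiskerLeft _ r.symm⟩

end Groth.Agent.FMKLib
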