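import Groth.Agent.FMKLib.NatPF

/-!
# Composites of Fourier–Mukai functors
-/

set_option autoImplicit false
set_option linter.style.haveILetI false
set_option backward.isDefEq.respectTransparency false
set_option maxHeartbeats 1000000

universe u v₁ v₂ v₃ u₁ u₂ u₃

open CategoryTheory CategoryTheory.Limits AlgebraicGeometry

attribute [local instance] HasDerivedCategory.standard

noncomputable section

namespace Groth.Agent.FMKLib

open Groth.Agent.DCohLib Groth.Agent.DCohMore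

section Formal

variable {C : Type u₁} [Category.{v₁} C] {D : Type u₂} [Category.{v₂} D] {H : Type u₃} [Category.{v₃} H]

/-- An isomorphism on a property transported along a functor preserving it. -/
def whiskerProp {P : ObjectProperty C} {Q : ObjectProperty D} (F : C ⥤ D) (h : ∀ E, P E → Q (F.obj E))
    {G G' : D ⥤ H} (e : Q.ι ⋙ G ≅ Q.ι ⋙ G') : P.ι ⋙ F ⋙ G ≅ P.ι ⋙ F ⋙ G' :=
  NatIso.ofComponents (fun E => e.app ⟨F.obj E.obj, h _ E.property⟩)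
    fun {E E'} φ => e.hom.naturality (X := ⟨F.obj E.obj, h _ E.property⟩) (Y := ⟨F.obj E'.obj, h _ E'.property⟩)
      (ObjectProperty.homMk (F.map φ.hom))

/-- Replacing a composable pair at the head of a composite. -/
def headPair {A B B' E : Type*} [Category A] [Category B] [Category B'] [Category E] {F₁ : A ⥤ B} {F₂ : B ⥤ E}
    {G₁ : A ⥤ B'} {G₂ : B' ⥤ E} (e : F₁ ⋙ F₂ ≅ G₁ ⋙ G₂) (R : E ⥤ H) : F₁ ⋙ F₂ ⋙ R ≅ G₁ ⋙ G₂ ⋙ R :=
  (Functor.associator _ _ _).symm ≪≫ Functor.isoWhiskerRight e R ≪≫ Functor.associator _ _ _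

end Formal

/-- Derived direct images along a commutative square. -/
theorem nonempty_rpush_square {W U V Y : Scheme.{u}} (p : W ⟶ U) (r : U ⟶ Y) (q : W ⟶ V) (s : V ⟶ Y)
    (h : p ≫ r = q ≫ s) [DCoh.HasRpush p] [DCoh.HasRpush r] [DCoh.HasRpush q] [DCoh.HasRpush s] :
    Nonempty (DCoh.Rpush p ⋙ DCoh.Rpush r ≅ DCoh.Rpush q ⋙ DCoh.Rpush s) := by
  haveI := BC.hasRpush (p ≫ r)
  haveI := BC.hasRpush (q ≫ s)
  obtain ⟨c₁⟩ := nonempty_rpushCompIso p r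
  obtain ⟨c₂⟩ := nonempty_rpushCompIso q s
  exact ⟨c₁ ≪≫ eqToIso (by simp only [h]) ≪≫ c₂.symm⟩

variable {S X Y Z : Scheme.{u}} (a : X ⟶ S) (b : Y ⟶ S) (c : Z ⟶ S)

/-- The composite of two Fourier–Mukai functors has the composite kernel, on objects with quasi-coherent
cohomology. -/
theorem nonempty_phi_comp [QuasiCompact a] [QuasiSeparated a] [QuasiCompact b] [QuasiSeparated b]
    (hflat : Flat a ∨ Flat c)
    (K : CochainComplex (pullback a b).Modules ℤ) (M : CochainComplex (pullback b c).Modules ℤ)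
    (hK : DCoh.IsQCohD (DerivedCategory.Q.obj K)) (hM : DCoh.IsQCohD (DerivedCategory.Q.obj M))
    [DCoh.HasLpull (pullback.fst a b)] [DCoh.HasLTensorCx K] [DCoh.HasRpush (pullback.snd a b)]
    [DCoh.HasLpull (pullback.fst b c)] [DCoh.HasLTensorCx M] [DCoh.HasRpush (pullback.snd b c)]
    [DCoh.HasLpull (FMK.p12 a b c)] [DCoh.HasLpull (FMK.p23 a b c)] [DCoh.HasRpush (FMK.p13 a b c)]
    [DCoh.HasLpull (pullback.fst a c)] [DCoh.HasRpush (pullback.snd a c)]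
    (L : CochainComplex (FMK.T a b c).Modules ℤ) [DCoh.HasLTensorCx L]
    (eL : DerivedCategory.Q.obj L ≅ (DCoh.Lpull (FMK.p23 a b c)).obj (DerivedCategory.Q.obj M))
    (N : CochainComplex (pullback a c).Modules ℤ) [DCoh.HasLTensorCx N]
    (eN : DerivedCategory.Q.obj N ≅ FMK.conv a b c K L) :
    Nonempty (ObjectProperty.ι (DCoh.IsQCohD (X := X)) ⋙ FMK.phi a c N ≅
      ObjectProperty.ι (DCoh.IsQCohD (X := X)) ⋙ FMK.phi a b K ⋙ FMK.phi b c M) := by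
  let q1 := pullback.fst a b
  let q2 := pullback.snd a b
  let s1 := pullback.fst b c
  let s2 := pullback.snd b c
  let r1 := pullback.fst a c
  let r2 := pullback.snd a c
  let p12 := FMK.p12 a b c
  let p23 := FMK.p23 a b c
  let p13 := FMK.p13 a b c
  haveI := quasiCompact_p13 a b c
  haveI := quasiSeparated_p13 a b c
  haveI : QuasiCompact q2 := inferInstanceAs (QuasiCompact (pullback.snd a b))
  haveI : QuasiSeparated q2 := inferInstanceAs (QuasiSeparated (pullback.snd a b))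
  haveI : QuasiCompact p23 := MorphismProperty.pullback_snd (P := @QuasiCompact) _ _ ‹QuasiCompact q2›
  haveI : QuasiSeparated p23 := MorphismProperty.pullback_snd (P := @QuasiSeparated) _ _ ‹QuasiSeparated q2›
  haveI := BC.hasRpush p23
  haveI := hasLpull p13
  have ht : BC.TI q2 s1 := by
    rcases hflat with h | h
    · haveI := h
      haveI : Flat q2 := inferInstanceAs (Flat (pullback.snd a b))
      exact @BC.TI.of_flat_left _ _ _ q2 s1 _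
    · haveI := h
      haveI : Flat s1 := inferInstanceAs (Flat (pullback.fst b c))
      exact @BC.TI.of_flat _ _ _ q2 s1 _
  let K₁₂ := DerivedCategory.Q.objPreimage ((DCoh.Lpull p12).obj (DerivedCategory.Q.obj K))
  let eK : DerivedCategory.Q.obj K₁₂ ≅ (DCoh.Lpull p12).obj (DerivedCategory.Q.obj K) :=
    DerivedCategory.Q.objObjPreimageIso _
  let L' := (resX _).obj L
  have hL' : DCoh.IsKFlat L' := isKFlat_resX L
  haveI := quasiIso_resXπ L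
  haveI : IsIso (DerivedCategory.Q.map ((resXπ _).app L)) := inferInstance
  obtain ⟨l⟩ := nonempty_lTensor_of_iso (E := L) (E' := L') (asIso (DerivedCategory.Q.map ((resXπ _).app L)))
  let W := (DCoh.tensorCx.obj K₁₂).obj L'
  obtain ⟨w⟩ := nonempty_lTensorCompIso K₁₂ L' hL'
  let eW : DerivedCategory.Q.obj W ≅
      (DCoh.LTensorCx L).obj ((DCoh.Lpull p12).obj (DerivedCategory.Q.obj K)) :=
    ((lTensorQIso L' hL').app K₁₂).symm ≪≫ (DCoh.LTensorCx L').mapIso eK ≪≫ l.app _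
  have hLq : DCoh.IsQCohD (DerivedCategory.Q.obj L) :=
    TildeD.isQCohD_of_iso eL.symm (TildeD.isQCohD_lpull p23 _ hM)
  have hWq : DCoh.IsQCohD (DerivedCategory.Q.obj W) :=
    TildeD.isQCohD_of_iso eW.symm (TildeD.isQCohD_lTensorCx L hLq _ (TildeD.isQCohD_lpull p12 _ hK))
  obtain ⟨pr⟩ := nonempty_proj_right p13 W hWq N (eN ≪≫ (DCoh.Rpush p13).mapIso eW.symm)
  obtain ⟨pl⟩ := nonempty_proj_left p23 M hM L eL
  obtain ⟨bc⟩ := nonempty_baseChange_qcoh q2 s1 p23 p12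
    (IsPullback.of_hasPullback (pullback.snd a b) (pullback.fst b c)) ht
  obtain ⟨t⟩ := nonempty_lpull_lTensor_natIso p12 K K₁₂ eK
  obtain ⟨sq⟩ := nonempty_lpull_square p13 r1 p12 q1 (FMK.p13_fst a b c)
  obtain ⟨rs⟩ := nonempty_rpush_square p13 r2 p23 s2 (FMK.p13_snd a b c)
  let ι := ObjectProperty.ι (DCoh.IsQCohD (X := X))
  let A := DCoh.Lpull q1 ⋙ DCoh.LTensorCx K
  have hA : ∀ E, DCoh.IsQCohD E → DCoh.IsQCohD (A.obj E) := fun E hE =>
    TildeD.isQCohD_lTensorCx K hK _ (TildeD.isQCohD_lpull q1 _ hE)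
  let T := DCoh.LTensorCx W ⋙ DCoh.Rpush p23 ⋙ DCoh.Rpush s2
  let common := ι ⋙ DCoh.Lpull q1 ⋙ DCoh.Lpull p12 ⋙ T
  -- the left hand side
  let l1 : ι ⋙ FMK.phi a c N ≅
      ι ⋙ DCoh.Lpull r1 ⋙ (DCoh.Lpull p13 ⋙ DCoh.LTensorCx W ⋙ DCoh.Rpush p13) ⋙ DCoh.Rpush r2 :=
    whiskerProp (DCoh.Lpull r1) (TildeD.isQCohD_lpull r1)
      ((Functor.associator _ _ _).symm ≪≫ Functor.isoWhiskerRight pr (DCoh.Rpush r2) ≪≫ Functor.associator _ _ _)
  let l2 : ι ⋙ DCoh.Lpull r1 ⋙ (DCoh.Lpull p13 ⋙ DCoh.LTensorCx W ⋙ DCoh.Rpush p13) ⋙ DCoh.Rpush r2 ≅ common :=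
    Functor.isoWhiskerLeft ι (Functor.isoWhiskerLeft _ (Functor.associator _ _ _ ≪≫
      Functor.isoWhiskerLeft _ (Functor.associator _ _ _ ≪≫ Functor.isoWhiskerLeft _ rs)) ≪≫ headPair sq _)
  -- the right hand side
  let r0 : ι ⋙ FMK.phi a b K ⋙ FMK.phi b c M ≅
      ι ⋙ A ⋙ (DCoh.Rpush q2 ⋙ DCoh.Lpull s1) ⋙ DCoh.LTensorCx M ⋙ DCoh.Rpush s2 :=
    Functor.isoWhiskerLeft ι (Functor.associator _ _ _ ≪≫
      Functor.isoWhiskerLeft _ (Functor.associator _ _ _ ≪≫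
        Functor.isoWhiskerLeft _ (Functor.associator _ _ _).symm) ≪≫ (Functor.associator _ _ _).symm)
  let r1' : ι ⋙ A ⋙ (DCoh.Rpush q2 ⋙ DCoh.Lpull s1) ⋙ DCoh.LTensorCx M ⋙ DCoh.Rpush s2 ≅
      ι ⋙ A ⋙ (DCoh.Lpull p12 ⋙ DCoh.Rpush p23) ⋙ DCoh.LTensorCx M ⋙ DCoh.Rpush s2 :=
    whiskerProp A hA ((Functor.associator _ _ _).symm ≪≫ Functor.isoWhiskerRight bc _ ≪≫ Functor.associator _ _ _)
  let r2' : ι ⋙ A ⋙ (DCoh.Lpull p12 ⋙ DCoh.Rpush p23) ⋙ DCoh.LTensorCx M ⋙ DCoh.Rpush s2 ≅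
      ι ⋙ (A ⋙ DCoh.Lpull p12) ⋙ (DCoh.Rpush p23 ⋙ DCoh.LTensorCx M) ⋙ DCoh.Rpush s2 :=
    Functor.isoWhiskerLeft ι (Functor.isoWhiskerLeft A (Functor.associator _ _ _) ≪≫
      (Functor.associator _ _ _).symm ≪≫ Functor.isoWhiskerLeft _ (Functor.associator _ _ _).symm)
  let r3 : ι ⋙ (A ⋙ DCoh.Lpull p12) ⋙ (DCoh.Rpush p23 ⋙ DCoh.LTensorCx M) ⋙ DCoh.Rpush s2 ≅
      ι ⋙ (A ⋙ DCoh.Lpull p12) ⋙ (DCoh.LTensorCx L ⋙ DCoh.Rpush p23) ⋙ DCoh.Rpush s2 :=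
    whiskerProp (A ⋙ DCoh.Lpull p12) (fun E hE => TildeD.isQCohD_lpull p12 _ (hA E hE))
      ((Functor.associator _ _ _).symm ≪≫ Functor.isoWhiskerRight pl _ ≪≫ Functor.associator _ _ _)
  let r4 : ι ⋙ (A ⋙ DCoh.Lpull p12) ⋙ (DCoh.LTensorCx L ⋙ DCoh.Rpush p23) ⋙ DCoh.Rpush s2 ≅ common :=
    Functor.isoWhiskerLeft ι (Functor.associator _ _ _ ≪≫ Functor.associator _ _ _ ≪≫
      Functor.isoWhiskerLeft (DCoh.Lpull q1) (headPair t _ ≪≫ Functor.isoWhiskerLeft (DCoh.Lpull p12)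
        (Functor.isoWhiskerLeft _ (Functor.associator _ _ _) ≪≫ (Functor.associator _ _ _).symm ≪≫
          Functor.isoWhiskerRight (Functor.isoWhiskerLeft _ l.symm ≪≫ w) _)))
  exact ⟨l1 ≪≫ l2 ≪≫ (r0 ≪≫ r1' ≪≫ r2' ≪≫ r3 ≪≫ r4).symm⟩

end Groth.Agent.FMKLib
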