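import Groth.Agent.FMKLib.ConvBC
import Groth.Agent.DCohMore.GoodBC
import Groth.Agent.DCohMore.FinPushRes
import Groth.Agent.CohBase.Affine
import Groth.Agent.AffLim.DescendBaseChange

/-!
# Base change of the structure sheaf of the diagonal
-/

set_option autoImplicit false
set_option linter.style.haveILetI false
set_option backward.isDefEq.respectTransparency false
set_option maxHeartbeats 1000000

universe u

open CategoryTheory CategoryTheory.Limits AlgebraicGeometry

attribute [local instance] HasDerivedCategory.standard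

noncomputable section

namespace Groth.Agent.FMKLib

open Groth.Agent.DCohLib Groth.Agent.DCohMore

/-- The structure sheaf of a closed subscheme flat over the base commutes with base change. -/
theorem nonempty_lpull_push_unit {S S' X X' W W' : Scheme.{u}} {f : X ⟶ S} {g : S' ⟶ S} {g' : X' ⟶ X}
    {f' : X' ⟶ S'} (hc : IsPullback g' f' f g) {δ : W ⟶ X} {δ' : W' ⟶ X'} {g'' : W' ⟶ W}
    (hd : IsPullback g'' δ' δ g') [Flat f] [IsAffineHom δ] [Flat (δ ≫ f)] [DCoh.HasLpull g'] :
    Nonempty ((DCoh.Lpull g').obj (DCoh.inD X ((Coh.push δ).obj (Coh.structureModule W))) ≅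
      DCoh.inD X' ((Coh.push δ').obj (Coh.structureModule W'))) := by
  let G := (Scheme.Modules.pushforward δ).obj (Coh.structureModule W)
  let C := (HomologicalComplex.single X.Modules (ComplexShape.up ℤ) 0).obj G
  have hb : ∀ n : ℤ, 0 < n → IsZero (C.X n) := fun n hn =>
    HomologicalComplex.isZero_single_obj_X _ _ _ _ (by omega)
  have hC : ∀ n, FlatMod.IsFlatOver f (C.X n) := fun n => by
    by_cases hn : n = 0
    · subst hn
      exact isFlatOver_of_iso f (HomologicalComplex.singleObjXSelf (ComplexShape.up ℤ) 0 G).symm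
        (isFlatOver_pushforward_affine δ f _ (isFlatOver_unit (f := δ ≫ f)))
    · exact isFlatOver_of_isZero f (HomologicalComplex.isZero_single_obj_X _ _ _ _ hn)
  obtain ⟨P, c, hc', hfl, hPb⟩ := exists_bdd_flat_resolution X.sheaf C 0 hb
  let P' : CochainComplex X.Modules ℤ := P
  let c' : P' ⟶ C := c
  haveI : QuasiIso c' := hc'
  have hP : ∀ n, FlatMod.IsFlat (P'.X n) := fun n => (isFlat_iff _).2 (hfl n)
  haveI := quasiIso_pullback_bc hc c' 0 hPb hb (fun n => isFlatOver_of_isFlat f (hP n)) hC
  haveI : IsIso (DerivedCategory.Q.map c') := inferInstance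
  haveI := isIso_bc0_affine δ δ' g'' hd (Coh.structureModule W)
  let e1 : (DCoh.Lpull g').obj (DerivedCategory.Q.obj C) ≅ DerivedCategory.Q.obj ((pullCx g').obj C) :=
    (DCoh.Lpull g').mapIso (asIso (DerivedCategory.Q.map c')).symm ≪≫
      lpullIsoK g' P' (isKFlat_of_flat_bddAbove P' 0 hPb hP) ≪≫
      asIso (DerivedCategory.Q.map ((pullCx g').map c'))
  let e2 : (Scheme.Modules.pullback g').obj G ≅ (Scheme.Modules.pushforward δ').obj (Coh.structureModule W') :=
    asIso (CohBC.bc0 δ g' δ' g'' hd.w (Coh.structureModule W)) ≪≫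
      (Scheme.Modules.pushforward δ').mapIso (pullStructureIso g'')
  exact ⟨(DCoh.Lpull g').mapIso ((DerivedCategory.singleFunctorIsoCompQ X.Modules 0).app G) ≪≫ e1 ≪≫
    DerivedCategory.Q.mapIso ((HomologicalComplex.singleMapHomologicalComplex (Scheme.Modules.pullback g')
      (ComplexShape.up ℤ) 0).app G ≪≫ (HomologicalComplex.single X'.Modules (ComplexShape.up ℤ) 0).mapIso e2) ≪≫
    ((DerivedCategory.singleFunctorIsoCompQ X'.Modules 0).app _).symm⟩

/-- The structure sheaf of the diagonal of a flat separated morphism commutes with base change. -/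
theorem nonempty_lpull_diagO {S S₁ X : Scheme.{u}} (a : X ⟶ S) (g : S₁ ⟶ S) [Flat a] [IsSeparated a]
    [DCoh.HasLpull (map₂ a a g)] :
    Nonempty ((DCoh.Lpull (map₂ a a g)).obj (FMK.diagO a) ≅ FMK.diagO (pullback.snd a g)) := by
  obtain ⟨hd, hm⟩ := Groth.Agent.AffLim.isPullback_diagonal a (IsPullback.of_hasPullback a g)
  haveI : Flat (pullback.diagonal a ≫ pullback.fst a a ≫ a) := by
    rw [← Category.assoc, pullback.diagonal_fst, Category.id_comp]
    infer_instance
  exact nonempty_lpull_push_unit hm hd

end Groth.Agent.FMKLib
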