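import Groth.Agent.FMKLib.CompConv
import Groth.Agent.DCohMore.GoodMain
import Groth.Agent.S13565

/-!
# Fourier–Mukai functors of kernels of relative equivalences
-/

set_option autoImplicit false
set_option linter.style.haveILetI false
set_option backward.isDefEq.respectTransparency false
set_option maxHeartbeats 1000000

universe u

open CategoryTheory CategoryTheory.Limits AlgebraicGeometry

attribute [local instance] HasDerivedCategory.standard

noncomputable section

namespace Groth.Agent.FMKLib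

open Groth.Agent.DCohLib Groth.Agent.DCohMore

/-- Two kernels composing to the diagonal give mutually inverse functors on one side. -/
theorem nonempty_phi_comp_id {S X Y : Scheme.{u}} (a : X ⟶ S) (b : Y ⟶ S) [IsSeparated a] [QuasiCompact a]
    [QuasiCompact b] [QuasiSeparated b] [Flat a]
    (K : CochainComplex (pullback a b).Modules ℤ) (K' : CochainComplex (pullback b a).Modules ℤ)
    (hK : DCoh.IsQCohD (DerivedCategory.Q.obj K)) (hK' : DCoh.IsQCohD (DerivedCategory.Q.obj K'))
    [DCoh.HasLpull (pullback.fst a b)] [DCoh.HasLTensorCx K] [DCoh.HasRpush (pullback.snd a b)]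
    [DCoh.HasLpull (pullback.fst b a)] [DCoh.HasLTensorCx K'] [DCoh.HasRpush (pullback.snd b a)]
    [DCoh.HasLpull (FMK.p12 a b a)] [DCoh.HasRpush (FMK.p13 a b a)]
    [DCoh.HasLTensorCx ((FMK.cxPull (FMK.p23 a b a)).obj K')]
    (e : FMK.diagO a ≅ FMK.conv a b a K ((FMK.cxPull (FMK.p23 a b a)).obj K')) :
    Nonempty (ObjectProperty.ι (DCoh.IsQCohD (X := X)) ⋙ FMK.phi a b K ⋙ FMK.phi b a K' ≅
      ObjectProperty.ι (DCoh.IsQCohD (X := X))) := by
  let L := (FMK.cxPull (FMK.p23 a b a)).obj K'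
  haveI : Flat (FMK.p23 a b a) := flat_p23 a b a
  haveI := hasLpull (FMK.p23 a b a)
  haveI := hasLpull (pullback.fst a a)
  haveI := BC.hasRpush (pullback.snd a a)
  obtain ⟨eL⟩ := nonempty_lpull_Q_flat (FMK.p23 a b a) K'
  let N := (HomologicalComplex.single (pullback a a).Modules (ComplexShape.up ℤ) 0).obj
    ((Coh.push (pullback.diagonal a)).obj (Coh.structureModule X))
  let eN : DerivedCategory.Q.obj N ≅ FMK.diagO a :=
    ((DerivedCategory.singleFunctorIsoCompQ (pullback a a).Modules 0).app _).symm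
  obtain ⟨c⟩ := nonempty_phi_comp a b a (Or.inl inferInstance) K K' hK hK' L eL.symm N (eN ≪≫ e)
  obtain ⟨d⟩ := Groth.Agent.S13565.result a N ⟨eN⟩
  exact ⟨c.symm ≪≫ Functor.isoWhiskerLeft _ d ≪≫ Functor.rightUnitor _⟩

/-- The second kernel of a relative equivalence, with the two identities of functors. -/
theorem exists_inverse {S X Y : Scheme.{u}} (a : X ⟶ S) (b : Y ⟶ S)
    [Smooth a] [IsProper a] [Smooth b] [IsProper b]
    (K : CochainComplex (pullback a b).Modules ℤ)
    [DCoh.HasLpull (pullback.fst a b)] [DCoh.HasLTensorCx K] [DCoh.HasRpush (pullback.snd a b)]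
    [DCoh.HasLpull (pullback.fst b a)] [DCoh.HasRpush (pullback.snd b a)]
    [DCoh.HasLpull (FMK.p12 a b a)] [DCoh.HasRpush (FMK.p13 a b a)]
    [∀ L : CochainComplex (FMK.T a b a).Modules ℤ, DCoh.HasLTensorCx L]
    [DCoh.HasLpull (FMK.p12 b a b)] [DCoh.HasRpush (FMK.p13 b a b)]
    [∀ L : CochainComplex (FMK.T b a b).Modules ℤ, DCoh.HasLTensorCx L]
    (hK : FMK.IsRelEquivKernel a b K) :
    ∃ K' : CochainComplex (pullback b a).Modules ℤ, DCoh.IsPerfect (DerivedCategory.Q.obj K') ∧
      Nonempty (ObjectProperty.ι (DCoh.IsQCohD (X := X)) ⋙ FMK.phi a b K ⋙ FMK.phi b a K' ≅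
        ObjectProperty.ι (DCoh.IsQCohD (X := X))) ∧
      Nonempty (ObjectProperty.ι (DCoh.IsQCohD (X := Y)) ⋙ FMK.phi b a K' ⋙ FMK.phi a b K ≅
        ObjectProperty.ι (DCoh.IsQCohD (X := Y))) := by
  obtain ⟨hKp, K', hK'p, ⟨e1⟩, ⟨e2⟩⟩ := hK
  have qK := isQCohD_of_isPerfect hKp
  have qK' := isQCohD_of_isPerfect hK'p
  exact ⟨K', hK'p, nonempty_phi_comp_id a b K K' qK qK' e1, nonempty_phi_comp_id b a K' K qK' qK e2⟩

/-- Mutually inverse functors on full subcategories. -/
theorem isEquivalence_lift {C D : Type*} [Category C] [Category D] (P : ObjectProperty C) (Q : ObjectProperty D)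
    (F : C ⥤ D) (G : D ⥤ C) (hF : ∀ M : C, P M → Q (F.obj M)) (hG : ∀ N : D, Q N → P (G.obj N))
    (e : P.ι ⋙ F ⋙ G ≅ P.ι) (e' : Q.ι ⋙ G ⋙ F ≅ Q.ι) :
    (ObjectProperty.lift Q (P.ι ⋙ F) fun M => hF M.obj M.property).IsEquivalence := by
  let F' := ObjectProperty.lift Q (P.ι ⋙ F) fun M : P.FullSubcategory => hF M.obj M.property
  let G' := ObjectProperty.lift P (Q.ι ⋙ G) fun N : Q.FullSubcategory => hG N.obj N.property
  let η : F' ⋙ G' ≅ 𝟭 P.FullSubcategory :=
    NatIso.ofComponents (fun M => P.isoMk (e.app M)) fun {M N} φ => ObjectProperty.hom_ext _ (e.hom.naturality φ)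
  let ε : G' ⋙ F' ≅ 𝟭 Q.FullSubcategory :=
    NatIso.ofComponents (fun M => Q.isoMk (e'.app M)) fun {M N} φ => ObjectProperty.hom_ext _ (e'.hom.naturality φ)
  exact (CategoryTheory.Equivalence.mk F' G' η.symm ε).isEquivalence_functor

/-- The functor of a perfect kernel along flat proper morphisms of finite presentation preserves perfectness. -/
theorem isPerfect_phi {S X Y : Scheme.{u}} (a : X ⟶ S) (b : Y ⟶ S) [Smooth a] [IsProper a]
    (K : CochainComplex (pullback a b).Modules ℤ)
    [DCoh.HasLpull (pullback.fst a b)] [DCoh.HasLTensorCx K] [DCoh.HasRpush (pullback.snd a b)]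
    (hK : DCoh.IsPerfect (DerivedCategory.Q.obj K)) (M : DCoh.D X) (hM : DCoh.IsPerfect M) :
    DCoh.IsPerfect ((FMK.phi a b K).obj M) := by
  let K₁ := (resX _).obj K
  haveI := quasiIso_resXπ K
  haveI : IsIso (DerivedCategory.Q.map ((resXπ _).app K)) := inferInstance
  let eK : DerivedCategory.Q.obj K₁ ≅ DerivedCategory.Q.obj K := asIso (DerivedCategory.Q.map ((resXπ _).app K))
  obtain ⟨l⟩ := nonempty_lTensor_of_iso (E := K) (E' := K₁) eK
  haveI : Smooth (pullback.snd a b) := inferInstance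
  refine isPerfect_rpush_proper (pullback.snd a b) _ (isPerfect_iso (l.app _) ?_)
  exact isPerfect_lTensor K₁ (isKFlat_resX K) (isPerfect_iso eK.symm hK) _ (isPerfect_lpull (pullback.fst a b) _ hM)

end Groth.Agent.FMKLib
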